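import Cfsg.Agent.Lib.InvChar.SporData.HeA.PermData

set_option autoImplicit false
set_option maxRecDepth 100000

namespace CfsgLib.InvChar.Coset.HeA

theorem orbit3_ok : ∀ j < 4, Table.OrbitOK tab3 [[0], [1], [2], [3]] orb3Pts orb3Pos orb3Par 4 j :=
  fun j hj => Table.chkOrbit_get tab3 [[0], [1], [2], [3]] orb3Pts orb3Pos orb3Par 4 4 0 (by decide +kernel) j (Nat.zero_le j) (by omega)

theorem base3 : field orb3Pts 128 20 0 = 34 := by decide +kernel

end CfsgLib.InvChar.Coset.HeA
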